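import Cfsg.Agent.H374.SR.Cent
import Cfsg.Agent.H721.SR.Base

/-!
# Non-real elements of the exceptional groups `D.group F` (helper374, S4971)

`nrel` : the general theorem.  `s` of order `m > 2` in the torus, `u` regular unipotent in `C(s)`, `x = s u`; by Lang's
theorem there are `x_1, x_s` in the finite group conjugate to `x` over the algebraic closure (twisted by `1` and `s`);
they are not both real.
-/

set_option autoImplicit false
set_option linter.unusedSectionVars false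

namespace Cfsg.Agent.H374.SR

open CoxeterSystem Cfsg Cfsg.Lie Cfsg.Lie.ChevalleyDatum
open Cfsg.Agent.ChevalleyStructure Cfsg.Agent.ChevalleyStructure.Elts Cfsg.Agent.ChevalleyStructure.CoxeterGeom
  Cfsg.Agent.ChevalleyStructure.CoxeterGeomTypes Cfsg.Agent.ChevalleyStructure.NPerm
open Cfsg.Agent.Tits.Roots Cfsg.Agent.Tits.Core Cfsg.Agent.Nodes Cfsg.Agent.Nodes.Reps Cfsg.Agent.Nodes.BNOf
  Cfsg.Agent.Nodes.RGDChev Cfsg.Agent.Nodes.Bruhat
open Cfsg.Agent.KFacts.RgdField Cfsg.Agent.KFacts.RgdChevCoord Cfsg.Agent.BpExc.TorCent Cfsg.Agent.BpExc.TorChev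
open Cfsg.Agent.GpExc.Field Cfsg.Agent.BpExc.Tow Cfsg.Agent.BpExc.TowChev Cfsg.Agent.BpExc.Fr
  Cfsg.Agent.BpExc.LangFr Cfsg.Agent.H129.TorusChar Cfsg.Agent.H129.TorusUntw Cfsg.Agent.BpExc Cfsg.Agent.BpExc.Zc
open Cfsg.Agent.H721.SR

universe u

variable {D : ChevalleyDatum} {l : ℕ} {M : CoxeterMatrix (Fin l)} (hp : IsType D l M)
  {k : Type u} [Field k] {r e : ℕ} [Fact r.Prime] [CharP k r] {j : Fin l} {m : ℕ} {β : Fin l → ℤ}

/-- the list of the simple roots -/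
def Ls (j : Fin l) (β : Fin l → ℤ) : List (Fin l → ℤ) :=
  β :: ((List.finRange l).filter (fun i => i ≠ j)).map (fun i => (sr i : Fin l → ℤ))

theorem mem_Ls {b : Fin l → ℤ} : b ∈ Ls j β ↔ b ∈ Pi j β := by
  unfold Ls Pi
  rw [List.mem_cons, List.mem_map]
  constructor
  · rintro (h | ⟨i, hi, rfl⟩)
    · exact Or.inl h
    · exact Or.inr ⟨i, by simpa using hi, rfl⟩
  · rintro (h | ⟨i, hi, rfl⟩)
    · exact Or.inl h
    · exact Or.inr ⟨i, by simpa using hi, rfl⟩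

theorem nodup_Ls (Dt : Dat M.toCoxeterSystem hp.isCartan j m β) : (Ls j β).Nodup := by
  unfold Ls
  rw [List.nodup_cons]
  constructor
  · intro h
    obtain ⟨i, hi, h1⟩ := List.mem_map.1 h
    have hij : i ≠ j := by simpa using hi
    have h2 := Dt.bj
    rw [← h1, sr_ne (Ne.symm hij)] at h2
    have := Dt.m2
    omega
  · refine List.Nodup.map ?_ ((List.nodup_finRange l).filter _)
    intro a b hab
    by_contra hne
    have h1 := congrFun hab a
    simp only [sr_self] at h1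
    rw [sr_ne hne] at h1
    exact one_ne_zero h1

theorem finite_Pi : (Pi j β : Set (Fin l → ℤ)).Finite := by
  have : (Pi j β : Set (Fin l → ℤ)) = {b | b ∈ Ls j β} := by
    ext b; exact mem_Ls.symm
  rw [this]
  exact List.finite_toSet _

/-- the inverse also permutes the simple roots -/
theorem inv_Pi {w : M.Group} (hwP : ∀ b ∈ Pi j β, rep M.toCoxeterSystem hp.isCartan w b ∈ Pi j β) :
    ∀ b ∈ Pi j β, rep M.toCoxeterSystem hp.isCartan w⁻¹ b ∈ Pi j β := by
  have hfin := finite_Pi (j := j) (β := β)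
  have : Finite ↥(Pi j β) := hfin
  let f : ↥(Pi j β) → ↥(Pi j β) := fun b => ⟨rep M.toCoxeterSystem hp.isCartan w b.1, hwP b.1 b.2⟩
  have hinj : Function.Injective f := by
    intro a b hab
    have h1 : rep M.toCoxeterSystem hp.isCartan w a.1 = rep M.toCoxeterSystem hp.isCartan w b.1 :=
      congrArg Subtype.val hab
    have h2 := congrArg (rep M.toCoxeterSystem hp.isCartan w⁻¹) h1
    rw [rep_inv_apply, rep_inv_apply] at h2
    exact Subtype.ext h2
  intro b hb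
  obtain ⟨⟨a, ha⟩, hab⟩ := Finite.surjective_of_injective hinj ⟨b, hb⟩
  have h1 : rep M.toCoxeterSystem hp.isCartan w a = b := congrArg Subtype.val hab
  rw [← h1, rep_inv_apply]
  exact ha

theorem perm_Ls (Dt : Dat M.toCoxeterSystem hp.isCartan j m β) {w : M.Group}
    (hwP : ∀ b ∈ Pi j β, rep M.toCoxeterSystem hp.isCartan w b ∈ Pi j β) :
    ((Ls j β).map (rep M.toCoxeterSystem hp.isCartan w)).Perm (Ls j β) := by
  refine (List.perm_ext_iff_of_nodup (List.Nodup.map ?_ (nodup_Ls hp Dt)) (nodup_Ls hp Dt)).2 fun b => ?_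
  · intro a b hab
    have h2 := congrArg (rep M.toCoxeterSystem hp.isCartan w⁻¹) hab
    rwa [rep_inv_apply, rep_inv_apply] at h2
  · rw [List.mem_map, mem_Ls]
    constructor
    · rintro ⟨a, ha, rfl⟩
      exact hwP a (mem_Ls.1 ha)
    · intro hb
      exact ⟨_, mem_Ls.2 (inv_Pi hp hwP b hb), rep_apply_inv _ _ _ _⟩

/-! ### the fixed points of the Frobenius -/

section Fix

variable {F : Type u} [Field F] [Fintype F] (f : F →+* k)

theorem pow_mem_range [IsAlgClosed k] (hq : Fintype.card F = r ^ e) {d : ℕ} {B : Fin l → Fin l → ℤ}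
    (hB : InvC D l d B) (hd : d ≠ 0) {g : ↥(D.group k)} (hg : phi D k r e g = g) :
    g ^ d ∈ (emb hp.inList f).range := by
  obtain ⟨x, t, ht, rfl⟩ := fix_split hp f hq hg
  rw [map_mul, phi_emb hp f hq] at hg
  have hf : phi D k r e t = t := mul_left_cancel hg
  have hconj : ∀ i : ℕ, ∀ y ∈ (emb hp.inList f).range, t ^ i * y * (t ^ i)⁻¹ ∈ (emb hp.inList f).range := by
    intro i y hy
    refine Emb.conj_mem_range hp.inList (f := f) (φ := iterateFrobenius k r e) (fun t => ?_)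
      (σ := fun y => phi D k r e y) (fun y => coe_phi y) ?_ hy
    · rw [iterateFrobenius_def, hq]
    · show phi D k r e (t ^ i) = t ^ i
      rw [map_pow, hf]
  have key : ∀ i : ℕ, ∃ y ∈ (emb hp.inList f).range, (emb hp.inList f x * t) ^ i = y * t ^ i := by
    intro i
    induction i with
    | zero => exact ⟨1, one_mem _, by rw [pow_zero, pow_zero, one_mul]⟩
    | succ i ih =>
      obtain ⟨y, hy, h1⟩ := ih
      refine ⟨y * (t ^ i * emb hp.inList f x * (t ^ i)⁻¹), mul_mem hy (hconj i _ ⟨x, rfl⟩), ?_⟩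
      rw [pow_succ, h1, pow_succ]
      group
  obtain ⟨y, hy, h1⟩ := key d
  rw [h1]
  exact mul_mem hy (fix_pow hp M.toCoxeterSystem f hq hB hd ht hf)

theorem mem_range [IsAlgClosed k] (hq : Fintype.card F = r ^ e) {d : ℕ} {B : Fin l → Fin l → ℤ}
    (hB : InvC D l d B) (hd : d ≠ 0) {N : ℕ} (hdF : (∀ a : F, ∃ b : F, b ^ d = a) ∨ d.Coprime N)
    {g : ↥(D.group k)} (hg : phi D k r e g = g) (hgN : g ^ N = 1) : g ∈ (emb hp.inList f).range := by
  rcases hdF with hF | hc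
  · exact fix_range hp M.toCoxeterSystem f hq hB hd hF hg
  · have h1 := pow_mem_range hp f hq hB hd hg
    have hco : IsCoprime (d : ℤ) (N : ℤ) := Nat.isCoprime_iff_coprime.2 hc
    obtain ⟨a, b, hab⟩ := hco
    have h2 : g = (g ^ d) ^ a * (g ^ N) ^ b := by
      rw [← zpow_natCast, ← zpow_natCast, ← zpow_mul, ← zpow_mul, ← zpow_add]
      have e : (d : ℤ) * a + N * b = 1 := by rw [← hab]; ring
      rw [e, zpow_one]
    rw [h2, hgN, one_zpow, mul_one]
    exact zpow_mem h1 a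

end Fix

/-! ### the frame automorphism -/

section Frame

variable [IsAlgClosed k] (hk : LocFin k)

/-- conjugation by a representative of `w`, composed with the Frobenius -/
theorem frame {w : M.Group} {n : ↥(D.group k)}
    (hn : Rp M.toCoxeterSystem (tow hp M.toCoxeterSystem hk r).nsys w n) :
    Fr M.toCoxeterSystem hp.isCartan (TT D k) (XX D l k) (MulAut.conj n * phi D k r e)
      (repAut (h := hp.isCartan) M.toCoxeterSystem w) := by
  have h1 := Fr.conj (tow hp M.toCoxeterSystem hk r) hn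
  rw [TL_eq hp hk, XL_eq hp hk] at h1
  exact h1.mul (fr_phi (p := r) (e := e) hp M.toCoxeterSystem)

include hk in
/-- **A regular unipotent element fixed by a frame automorphism.** -/
theorem exists_fixed {d : ℕ} {B : Fin l → Fin l → ℤ} (hB : InvC D l d B) (hd : d ≠ 0) (he : 0 < e)
    (Dt : Dat M.toCoxeterSystem hp.isCartan j m β) {w : M.Group}
    (hw : ∀ x, (m : ℤ) ∣ rep M.toCoxeterSystem hp.isCartan w x j - ((r ^ e : ℕ) : ℤ) * x j)
    (hwP : ∀ b ∈ Pi j β, rep M.toCoxeterSystem hp.isCartan w b ∈ Pi j β) :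
    ∃ n, Rp M.toCoxeterSystem (tow hp M.toCoxeterSystem hk r).nsys w n ∧
      ∃ y0 ∈ RGD.Sup (XX D l k) (Com (PP M.toCoxeterSystem hp.isCartan j m) (fj j β m) m),
        n * phi D k r e (y0 * ((Ls j β).map fun b => xc hp b (1 : k)).prod) * n⁻¹ =
          y0 * ((Ls j β).map fun b => xc hp b (1 : k)).prod := by
  have H := tow hp M.toCoxeterSystem hk r
  have C := coordsL hp M.toCoxeterSystem hk r
  have Bs := Dt.bas
  obtain ⟨n0, hn0⟩ := exists_rp M.toCoxeterSystem (tow hp M.toCoxeterSystem hk r).nsys w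
  have F1 := frame (e := e) hp hk hn0
  have hσ1 : IsFrob r e (MulAut.conj n0 * phi D k r e) := isFrob_phi.conj_mul n0
  have hx : ∀ b, b ∈ Pi j β → ∃ c : k, c ≠ 0 ∧ ∀ t : k, (MulAut.conj n0 * phi D k r e) (xc hp b t) =
      xc hp (rep M.toCoxeterSystem hp.isCartan w b) (c * t ^ r ^ e) := fun b hb =>
    HX.fr_xc hp M.toCoxeterSystem hσ1 F1 (Dt.mem_PP hb).1
  choose! cf hcf using hx
  obtain ⟨τ, hτ, hτX⟩ := exists_TT_Pi hp hB hd Dt
    (fun b => (cf (rep M.toCoxeterSystem hp.isCartan w⁻¹ b))⁻¹)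
    (fun b hb => inv_ne_zero (hcf _ (inv_Pi hp hwP b hb)).1)
  have hn : Rp M.toCoxeterSystem (tow hp M.toCoxeterSystem hk r).nsys w (τ * n0) := by
    have h1 := (rp_of_mem (cs := M.toCoxeterSystem) (hN := (tow hp M.toCoxeterSystem hk r).nsys) (t := τ)
      (by rw [TL_eq hp hk]; exact hτ)).mul hn0
    rwa [one_mul] at h1
  refine ⟨τ * n0, hn, ?_⟩
  have F := frame (e := e) hp hk hn
  have hσ : IsFrob r e (MulAut.conj (τ * n0) * phi D k r e) := isFrob_phi.conj_mul _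
  obtain ⟨σ, hσdef⟩ : ∃ σ, σ = MulAut.conj (τ * n0) * phi D k r e := ⟨_, rfl⟩
  rw [← hσdef] at F hσ
  have hσa : ∀ y, σ y = τ * n0 * phi D k r e y * (τ * n0)⁻¹ := fun y => by rw [hσdef]; rfl
  -- the action on the simple root elements
  have hxc : ∀ b ∈ Pi j β, σ (xc hp b (1 : k)) = xc hp (rep M.toCoxeterSystem hp.isCartan w b) (1 : k) := by
    intro b hb
    have h1 := (hcf b hb).2 1
    have h2 : n0 * phi D k r e (xc hp b (1 : k)) * n0⁻¹ =
        xc hp (rep M.toCoxeterSystem hp.isCartan w b) (cf b * 1 ^ r ^ e) := h1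
    rw [one_pow, mul_one] at h2
    have h3 : σ (xc hp b (1 : k)) = τ * (n0 * phi D k r e (xc hp b (1 : k)) * n0⁻¹) * τ⁻¹ := by
      rw [hσa]; group
    have hwb := hwP b hb
    rw [h3, h2, (C.coord _ (Dt.mem_PP hwb).1).act τ hτ, ← cX_root hp M.toCoxeterSystem hτ (Dt.mem_PP hwb).1,
      hτX _ hwb, rep_inv_apply, inv_mul_cancel₀ (hcf b hb).1]
  obtain ⟨v0, hv0⟩ : ∃ v0, v0 = ((Ls j β).map fun b => xc hp b (1 : k)).prod := ⟨_, rfl⟩
  have hσv : σ v0 = (((Ls j β).map (rep M.toCoxeterSystem hp.isCartan w)).map fun b => xc hp b (1 : k)).prod := by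
    rw [hv0, map_list_prod, List.map_map, List.map_map]
    congr 1
    exact List.map_congr_left fun b hb => hxc b (mem_Ls.1 hb)
  obtain ⟨E⟩ := nonempty_lev hk
  have hcom : σ v0 * v0⁻¹ ∈ RGD.Sup (XX D l k) (Com (PP M.toCoxeterSystem hp.isCartan j m) (fj j β m) m) := by
    rw [hσv, hv0]
    have h1 := Bs.prod_perm (H.rgd E) (commZ hp E) (y := fun b => xc hp b (1 : k)) (perm_Ls hp Dt hwP)
      (fun b hb => by
        obtain ⟨a, ha, rfl⟩ := List.mem_map.1 hb
        have h2 := hwP a (mem_Ls.1 ha)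
        exact ⟨Dt.mem_PP h2, xc_mem_Xj hp E (Dt.mem_PP h2).1⟩)
    rw [← XL_eq hp hk]
    exact Sup_le_SupL E _ h1
  have hwpos : ∀ b ∈ Pi j β, 0 ≤ rep M.toCoxeterSystem hp.isCartan w b := fun b hb => (Dt.mem_PP (hwP b hb)).2.1
  obtain ⟨y, hy, hyv⟩ := lang_fr hp M.toCoxeterSystem he hσ F
    (S := Com (PP M.toCoxeterSystem hp.isCartan j m) (fj j β m) m) (fun a ha => ha.1.1)
    (fun a ha => by
      rw [repAut_apply]
      refine ⟨Dt.map_PP hw hwpos ha.1, ?_⟩
      have h1 := Dt.eq_of_Pi (f := fj j β m)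
        (g := (fj j β m).comp (rep M.toCoxeterSystem hp.isCartan w).toAddMonoidHom)
        (fun b hb => by
          rw [Dt.fj_Pi hb]
          exact (Dt.fj_Pi (hwP b hb)).symm) a
      have h2 : fj j β m (rep M.toCoxeterSystem hp.isCartan w a) = fj j β m a := h1.symm
      rw [h2]
      exact ha.2) (inv_mem hcom)
  refine ⟨y, hy, ?_⟩
  rw [← hv0, ← hσa, map_mul]
  have h1 : σ y = y * (σ v0 * v0⁻¹)⁻¹ := by rw [hyv]; group
  rw [h1]
  group

end Frame

/-! ### the main theorem -/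

/-- abstract form: `x_1` and `x_s` are not both real -/
theorem not_both_real {G0 Y : Type*} [Group G0] [Group Y] {e0 : G0 →* Y} {φ : MulAut Y} (hfix : ∀ x, φ (e0 x) = e0 x)
    {n s u0 : Y} (hsu : s * u0 = u0 * s) {K : ℕ} (hK : (s * u0) ^ K = s)
    (hcent : ∀ c : Y, c * s = s * c → c * u0 = u0 * c → n * φ c * n⁻¹ ≠ c * (s * s))
    (hex : ∀ a : Y, a * (s * u0) = (s * u0) * a →
      ∃ h : Y, h⁻¹ * φ h = a * n ∧ h * (s * u0) * h⁻¹ ∈ e0.range) : NRel G0 := by
  by_contra hcon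
  have hreal : ∀ g : G0, ∃ c, c * g * c⁻¹ = g⁻¹ := by
    intro g
    by_contra h1
    exact hcon ⟨g, fun h2 => h1 (isConj_iff.1 h2)⟩
  obtain ⟨x0, hx⟩ : ∃ x0, x0 = s * u0 := ⟨_, rfl⟩
  rw [← hx] at hK hex
  have hs0 : s * x0 = x0 * s := by rw [hx, mul_assoc, ← hsu]
  have key : ∀ a : Y, a * x0 = x0 * a → ∃ r : Y, r * x0 * r⁻¹ = x0⁻¹ ∧ n * φ r * n⁻¹ = a⁻¹ * r * a := by
    intro a ha
    obtain ⟨h, h1, g, hg⟩ := hex a ha
    obtain ⟨c, hc⟩ := hreal g
    have h2 : e0 c * (h * x0 * h⁻¹) * (e0 c)⁻¹ = (h * x0 * h⁻¹)⁻¹ := by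
      rw [← hg, ← map_inv, ← map_mul, ← map_mul, hc, map_inv]
    refine ⟨h⁻¹ * e0 c * h, ?_, ?_⟩
    · calc h⁻¹ * e0 c * h * x0 * (h⁻¹ * e0 c * h)⁻¹ = h⁻¹ * (e0 c * (h * x0 * h⁻¹) * (e0 c)⁻¹) * h := by group
        _ = h⁻¹ * (h * x0 * h⁻¹)⁻¹ * h := by rw [h2]
        _ = x0⁻¹ := by group
    · have h3 : φ h = h * (a * n) := by rw [← h1]; group
      rw [map_mul, map_mul, map_inv, hfix, h3]
      group
  obtain ⟨r1, h1, h2⟩ := key 1 (by rw [one_mul, mul_one])
  obtain ⟨r2, h3, h4⟩ := key s hs0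
  rw [inv_one, one_mul, mul_one] at h2
  have hr1 : r1 * x0 = x0⁻¹ * r1 := mul_inv_eq_iff_eq_mul.1 h1
  have hr2 : r2 * x0 = x0⁻¹ * r2 := mul_inv_eq_iff_eq_mul.1 h3
  have hc0 : (r1⁻¹ * r2) * x0 = x0 * (r1⁻¹ * r2) := by
    have h5 : x0 * r1⁻¹ = r1⁻¹ * x0⁻¹ := by
      calc x0 * r1⁻¹ = r1⁻¹ * (r1 * x0) * r1⁻¹ := by group
        _ = r1⁻¹ * (x0⁻¹ * r1) * r1⁻¹ := by rw [hr1]
        _ = _ := by group
    calc (r1⁻¹ * r2) * x0 = r1⁻¹ * (r2 * x0) := by group
      _ = r1⁻¹ * x0⁻¹ * r2 := by rw [hr2]; group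
      _ = x0 * (r1⁻¹ * r2) := by rw [← h5]; group
  have hcs : (r1⁻¹ * r2) * s = s * (r1⁻¹ * r2) := by
    have h5 : Commute (r1⁻¹ * r2) x0 := hc0
    have h6 := h5.pow_right K
    rw [hK] at h6
    exact h6
  have hcu : (r1⁻¹ * r2) * u0 = u0 * (r1⁻¹ * r2) := by
    have h5 : Commute (r1⁻¹ * r2) x0 := hc0
    have h6 : Commute (r1⁻¹ * r2) s := hcs
    have h7 := h6.inv_right.mul_right h5
    rw [hx, inv_mul_cancel_left] at h7
    exact h7
  refine hcent (r1⁻¹ * r2) hcs hcu ?_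
  have hr2s : r2 * s * r2⁻¹ = s⁻¹ := by
    conv_lhs => rw [← hK]
    rw [← conj_pow, h3, inv_pow, hK]
  have h5 : s⁻¹ * r2 * s = r2 * (s * s) := by
    have h6 : s⁻¹ * r2 = r2 * s := by rw [← hr2s]; group
    rw [h6]; group
  calc n * φ (r1⁻¹ * r2) * n⁻¹ = (n * φ r1 * n⁻¹)⁻¹ * (n * φ r2 * n⁻¹) := by rw [map_mul, map_inv]; group
    _ = r1⁻¹ * (s⁻¹ * r2 * s) := by rw [h2, h4]
    _ = r1⁻¹ * r2 * (s * s) := by rw [h5]; group

/-- **Non-real elements.** -/
theorem nrel {F : Type u} [Field F] [Finite F] {d : ℕ} {B : Fin l → Fin l → ℤ} (hB : InvC D l d B) (hd : d ≠ 0)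
    (Dt : Dat M.toCoxeterSystem hp.isCartan j m β)
    (hstab : ∀ v : M.Group, (∀ x, (m : ℤ) ∣ rep M.toCoxeterSystem hp.isCartan v x j - x j) →
      (∀ b ∈ Pi j β, rep M.toCoxeterSystem hp.isCartan v b ∈ Pi j β) → v = 1)
    (w : M.Group) (hw : ∀ x, (m : ℤ) ∣ rep M.toCoxeterSystem hp.isCartan w x j - (Nat.card F : ℤ) * x j)
    (hwP : ∀ b ∈ Pi j β, rep M.toCoxeterSystem hp.isCartan w b ∈ Pi j β) (hm : m.Coprime (Nat.card F))
    (hdF : (∀ a : F, ∃ b : F, b ^ d = a) ∨ d.Coprime (m * Nat.card F)) : NRel ↥(D.group F) := by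
  have : Fintype F := Fintype.ofFinite F
  rw [Nat.card_eq_fintype_card] at hw hm hdF
  obtain ⟨r, e, hr, hrF, hrk, he, hq, hk⟩ := exists_closure (F := F) rfl
  have hWf := finite_W hp M.toCoxeterSystem
  have hrp : r.Prime := hr.out
  have hm1 : 1 < m := by have := Dt.m2; omega
  have hmr : m.Coprime r := by
    rw [hq] at hm
    exact Nat.Coprime.coprime_dvd_right (dvd_pow_self r he.ne') hm
  rw [hq] at hw
  let k := AlgebraicClosure F
  have hmk : (m : k) ≠ 0 := by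
    intro h0
    have h1 := (CharP.cast_eq_zero_iff k r m).1 h0
    have h2 := Nat.dvd_gcd h1 (dvd_refl r)
    rw [hmr] at h2
    exact hrp.one_lt.ne' (Nat.dvd_one.1 h2)
  have : NeZero (m : k) := ⟨hmk⟩
  obtain ⟨ζ, hζ⟩ := HasEnoughRootsOfUnity.exists_primitiveRoot k m
  have H := tow (k := k) hp M.toCoxeterSystem hk r
  have C := coordsL (k := k) hp M.toCoxeterSystem hk r
  have hζ0 : ζ ≠ 0 := hζ.ne_zero (by omega)
  -- the element `s`
  obtain ⟨s, hs, hsx'⟩ := exists_cX (k := k) hp hB hd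
    (IsMC.of_prod (fun i => if i = j then ζ else 1) (fun i => by
      by_cases hi : i = j
      · rw [if_pos hi]; exact hζ0
      · rw [if_neg hi]; exact one_ne_zero))
    (fun i => IsAlgClosed.exists_pow_nat_eq _ (Nat.pos_of_ne_zero hd))
  have hsx : ∀ x, cX hp s x = ζ ^ x j := by
    intro x
    rw [hsx', Finset.prod_eq_single j]
    · rw [if_pos rfl]
    · intro i _ hi
      rw [if_neg hi, one_zpow]
    · intro h; exact absurd (Finset.mem_univ j) h
  have hsPi : ∀ b ∈ Pi j β, cX hp s b = 1 := by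
    intro b hb
    rw [hsx, hζ.zpow_eq_one_iff_dvd]
    exact (Dt.mem_PP hb).2.2
  have hsm : s ^ m = 1 := by
    refine cX_inj hp (pow_mem hs m) (one_mem _) fun i => ?_
    rw [cX_pow hp hs, cX_one, hsx, ← zpow_natCast, zpow_comm, zpow_natCast, hζ.pow_eq_one, one_zpow]
  obtain ⟨n, hn, y0, hy0, hfix⟩ := exists_fixed (k := k) hp hk hB hd he Dt hw hwP
  obtain ⟨u0, hu0⟩ : ∃ u0, u0 = y0 * ((Ls j β).map fun b => xc hp b (1 : k)).prod := ⟨_, rfl⟩
  rw [← hu0] at hfix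
  have Fr0 := frame (e := e) hp hk hn
  have hσ0 : IsFrob r e (MulAut.conj n * phi D k r e) := isFrob_phi.conj_mul _
  obtain ⟨σ, hσdef⟩ : ∃ σ, σ = MulAut.conj n * phi D k r e := ⟨_, rfl⟩
  rw [← hσdef] at Fr0 hσ0
  have hσa : ∀ y, σ y = n * phi D k r e y * n⁻¹ := fun y => by rw [hσdef]; rfl
  have hσs : σ s = s := fixT hp Dt hσ0 Fr0 hw hs hsPi
  have hσu : σ u0 = u0 := by rw [hσa]; exact hfix
  -- `u0 ∈ U_Ψ`
  have hXc : ∀ b ∈ Pi j β, xc hp b (1 : k) ∈ XX D l k b := by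
    intro b hb
    obtain ⟨a, ha, hab⟩ := (isRoot_iff hp M.toCoxeterSystem b).1 (Dt.mem_PP hb).1
    rw [← hab]
    exact (HX.mem_XX_xc hp ha).2 ⟨1, rfl⟩
  have huP : u0 ∈ RGD.Sup (XX D l k) (PP M.toCoxeterSystem hp.isCartan j m) := by
    rw [hu0]
    refine mul_mem (RGD.Sup_mono (S := Com (PP M.toCoxeterSystem hp.isCartan j m) (fj j β m) m)
      (S' := PP M.toCoxeterSystem hp.isCartan j m) (fun a ha => ha.1) hy0) (list_prod_mem ?_)
    intro y hy
    obtain ⟨b, hb, rfl⟩ := List.mem_map.1 hy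
    exact RGD.le_Sup (Dt.mem_PP (mem_Ls.1 hb)) (hXc b (mem_Ls.1 hb))
  have hUc : RGD.Sup (XX D l k) (PP M.toCoxeterSystem hp.isCartan j m) ≤ Subgroup.centralizer {s} := by
    refine RGD.Sup_le fun a ha => X_le_centralizer C hs ⟨ha.1, ?_⟩
    rw [← cX_root hp M.toCoxeterSystem hs ha.1, hsx, hζ.zpow_eq_one_iff_dvd]
    exact ha.2.2
  have hsu : s * u0 = u0 * s := (Subgroup.mem_centralizer_singleton_iff.1 (hUc huP)).symm
  -- the order of `u0`
  obtain ⟨N, hN⟩ : ∃ N : ℕ, u0 ^ r ^ N = 1 := by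
    obtain ⟨E, hE⟩ := H.mem_Sup (y := u0) (S := PP M.toCoxeterSystem hp.isCartan j m) |>.1
      (by rw [XL_eq hp hk]; exact huP)
    have h1 := (H.rgd E).isPGroup_of_pos (S := PP M.toCoxeterSystem hp.isCartan j m) (fun a ha => ⟨ha.1, ha.2.1⟩)
    obtain ⟨N, hN⟩ := h1 ⟨u0, hE⟩
    exact ⟨N, congrArg Subtype.val hN⟩
  have hcop : (r ^ N).Coprime m := (hmr.symm).pow_left N
  obtain ⟨t', ht'⟩ := Nat.exists_mul_mod_eq_one_of_coprime hcop hm1
  have hcsu : Commute s u0 := hsu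
  have hK : (s * u0) ^ (r ^ N * t') = s := by
    rw [hcsu.mul_pow, pow_mul u0, hN, one_pow, mul_one]
    have h1 : s ^ (r ^ N * t') = s ^ (r ^ N * t' % m) := by
      conv_lhs => rw [← Nat.mod_add_div (r ^ N * t') m, pow_add, pow_mul, hsm, one_pow, mul_one]
    rw [h1, ht'.2, pow_one]
  refine not_both_real (e0 := emb hp.inList (algebraMap F k)) (φ := phi D k r e) (n := n) (s := s) (u0 := u0)
    (phi_emb hp _ hq) hsu hK ?_ ?_
  · intro c hc1 hc2 hc3
    rw [← hσa] at hc3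
    obtain ⟨u, hu, t, ht, htb, rfl⟩ := cent hp hk r Dt hstab hs hζ hsx hy0 (L := Ls j β) (fun b => mem_Ls)
      (nodup_Ls hp Dt) hc1 (by rw [← hu0]; exact hc2)
    have hσt : σ t = t := fixT hp Dt hσ0 Fr0 hw ht htb
    rw [map_mul, hσt] at hc3
    have hcomm := TT_comm hp (K := k)
    have h1 : u⁻¹ * σ u = s * s := by
      have h2 : t * (s * s) * t⁻¹ = s * s := by
        rw [hcomm t ht _ (mul_mem hs hs)]; group
      calc u⁻¹ * σ u = u⁻¹ * (σ u * t) * t⁻¹ := by group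
        _ = t * (s * s) * t⁻¹ := by rw [hc3]; group
        _ = s * s := h2
    have hwpos : ∀ b ∈ Pi j β, 0 ≤ rep M.toCoxeterSystem hp.isCartan w b := fun b hb => (Dt.mem_PP (hwP b hb)).2.1
    have hσU : σ u ∈ RGD.Sup (XX D l k) (PP M.toCoxeterSystem hp.isCartan j m) := by
      have h2 : RGD.Sup (XX D l k) (PP M.toCoxeterSystem hp.isCartan j m) ≤
          (RGD.Sup (XX D l k) (PP M.toCoxeterSystem hp.isCartan j m)).comap σ.toMonoidHom := by
        refine RGD.Sup_le fun a ha y hy => ?_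
        have h3 := (Fr0.map a ha.1 y).2 hy
        rw [repAut_apply] at h3
        exact RGD.le_Sup (Dt.map_PP hw hwpos ha) h3
      exact h2 hu
    have h2 : s * s ∈ RGD.Sup (XX D l k) (PP M.toCoxeterSystem hp.isCartan j m) := by
      rw [← h1]; exact mul_mem (inv_mem hu) hσU
    have h3 : s * s = 1 := by
      obtain ⟨E1, h4⟩ := H.mem_Sup (y := s * s) (S := PP M.toCoxeterSystem hp.isCartan j m) |>.1
        (by rw [XL_eq hp hk]; exact h2)
      obtain ⟨E2, h5⟩ := H.mem_TL (y := s * s).1 (by rw [TL_eq hp hk]; exact mul_mem hs hs)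
      obtain ⟨E, a1, a2⟩ := H.dir E1 E2
      have h6 := H.mono_Sup _ a1 h4
      have h7 := H.monoT a2 h5
      have h8 := OppDec.U_inf_T (H.rgd E)
      have h9 : s * s ∈ RGD.Sup (Xj hp E) (RGD.Pos M.toCoxeterSystem hp.isCartan) ⊓ Tj hp E :=
        ⟨RGD.Sup_mono (S := PP M.toCoxeterSystem hp.isCartan j m) (S' := RGD.Pos M.toCoxeterSystem hp.isCartan)
          (fun a ha => ⟨ha.1, ha.2.1⟩) h6, h7⟩
      rw [h8, Subgroup.mem_bot] at h9
      exact h9
    have h4 := cX_pow hp hs 2 (sr j)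
    rw [pow_two, h3, cX_one, hsx, sr_self, zpow_one] at h4
    have h5 := (hζ.pow_eq_one_iff_dvd 2).1 h4.symm
    have h6 := Nat.le_of_dvd (by norm_num) h5
    have := Dt.m2
    omega
  · intro a ha
    obtain ⟨h, hh⟩ := lang_all hp M.toCoxeterSystem he (isFrob_phi (D := D) (k := k) (p := r) (e := e))
      (fr_phi hp M.toCoxeterSystem) 1 (a * n)
    rw [map_one, one_mul] at hh
    refine ⟨h, hh.symm, ?_⟩
    have h1 : phi D k r e h = h * (a * n) := by rw [hh]; group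
    have h2 : phi D k r e (s * u0) = n⁻¹ * (s * u0) * n := by
      have h3 : n * phi D k r e (s * u0) * n⁻¹ = s * u0 := by rw [← hσa, map_mul, hσs, hσu]
      calc phi D k r e (s * u0) = n⁻¹ * (n * phi D k r e (s * u0) * n⁻¹) * n := by group
        _ = _ := by rw [h3]
    refine mem_range hp (algebraMap F k) hq hB hd (N := m * r ^ N) ?_ ?_ ?_
    · refine hdF.imp id fun h3 => ?_
      have h4 : d.Coprime m := Nat.Coprime.coprime_dvd_right (Dvd.intro _ rfl) h3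
      have h5 : d.Coprime (r ^ e) := by
        rw [← hq]
        exact Nat.Coprime.coprime_dvd_right (Dvd.intro_left _ rfl) h3
      have h6 : d.Coprime r := Nat.Coprime.coprime_dvd_right (dvd_pow_self r he.ne') h5
      exact Nat.Coprime.mul_right h4 (h6.pow_right N)
    · rw [map_mul, map_mul, map_inv, h1, h2]
      calc h * (a * n) * (n⁻¹ * (s * u0) * n) * (h * (a * n))⁻¹ = h * (a * (s * u0)) * a⁻¹ * h⁻¹ := by group
        _ = h * ((s * u0) * a) * a⁻¹ * h⁻¹ := by rw [ha]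
        _ = _ := by group
    · rw [conj_pow, hcsu.mul_pow, pow_mul, hsm, one_pow, one_mul, mul_comm m, pow_mul, hN, one_pow, mul_one,
        mul_inv_cancel]

end Cfsg.Agent.H374.SR
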