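import Cfsg.Agent.H374.SR.Rel

/-!
# The closed subsystem `{a : m ∣ a j}` and its simple roots `sr i` (`i ≠ j`), `β` (helper374, S4971)
-/

set_option autoImplicit false
set_option linter.unusedSectionVars false

namespace Cfsg.Agent.H374.SR

open CoxeterSystem Cfsg.Agent.ChevalleyStructure.CoxeterGeom Cfsg.Agent.Tits.Roots Cfsg.Agent.Tits.Core
  Cfsg.Agent.Tits.Exchange Cfsg.Agent.Nodes.Reps Cfsg.Agent.Nodes.BNOf Cfsg.Agent.BpExc.Zc

variable {I W : Type*} [Fintype I] [DecidableEq I] [Group W] {M : CoxeterMatrix I}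
  {cs : CoxeterSystem M W} {A : I → I → ℤ} {h : IsCartan M A}

/-- the simple roots of the subsystem -/
def Pi (j : I) (β : I → ℤ) : Set (I → ℤ) := {a | a = β ∨ ∃ i, i ≠ j ∧ a = sr i}

/-- `m` times the height with respect to the simple roots of the subsystem -/
def fj (j : I) (β : I → ℤ) (m : ℕ) : (I → ℤ) →+ ℤ where
  toFun x := x j + ∑ i ∈ Finset.univ.erase j, ((m : ℤ) * x i - x j * β i)
  map_zero' := by simp
  map_add' x y := by
    have e : ∀ i, (m : ℤ) * (x + y) i - (x + y) j * β i = ((m : ℤ) * x i - x j * β i) + ((m : ℤ) * y i - y j * β i) := by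
      intro i
      rw [Pi.add_apply, Pi.add_apply]; ring
    rw [Finset.sum_congr rfl fun i _ => e i, Finset.sum_add_distrib, Pi.add_apply]
    ring

theorem fj_apply (j : I) (β : I → ℤ) (m : ℕ) (x : I → ℤ) :
    fj j β m x = x j + ∑ i ∈ Finset.univ.erase j, ((m : ℤ) * x i - x j * β i) := rfl

/-- the positive roots of the subsystem -/
def PP (cs : CoxeterSystem M W) (h : IsCartan M A) (j : I) (m : ℕ) : Set (I → ℤ) :=
  {a | IsRoot cs h a ∧ 0 ≤ a ∧ (m : ℤ) ∣ a j}

/-- the data of the subsystem -/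
structure Dat (cs : CoxeterSystem M W) (h : IsCartan M A) (j : I) (m : ℕ) (β : I → ℤ) : Prop where
  m2 : 2 < m
  root : IsRoot cs h β
  pos : 0 ≤ β
  bj : β j = m
  nn : ∀ a, IsRoot cs h a → 0 ≤ a → (m : ℤ) ∣ a j → ∀ i, i ≠ j → a j * β i ≤ m * a i

variable {j : I} {m : ℕ} {β : I → ℤ} (D : Dat cs h j m β)

include D

theorem Dat.m0 : (0 : ℤ) < m := by have := D.m2; omega

theorem Dat.mem_PP {b : I → ℤ} (hb : b ∈ Pi j β) : b ∈ PP cs h j m := by
  rcases hb with rfl | ⟨i, hi, rfl⟩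
  · exact ⟨D.root, D.pos, by rw [D.bj]⟩
  · refine ⟨isRoot_sr cs h i, sr_nonneg i, ?_⟩
    rw [sr_ne (Ne.symm hi)]
    exact dvd_zero _

theorem Dat.fj_Pi {b : I → ℤ} (hb : b ∈ Pi j β) : fj j β m b = m := by
  rw [fj_apply]
  rcases hb with rfl | ⟨i, hi, rfl⟩
  · rw [D.bj]
    have : ∀ i ∈ Finset.univ.erase j, ((m : ℤ) * b i - (m : ℤ) * b i) = 0 := fun i _ => sub_self _
    rw [Finset.sum_congr rfl this, Finset.sum_const_zero, add_zero]
  · rw [sr_ne (Ne.symm hi), zero_add, Finset.sum_eq_single i]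
    · rw [sr_self, mul_one, zero_mul, sub_zero]
    · intro k _ hk
      rw [sr_ne hk, mul_zero, zero_mul, sub_zero]
    · intro hi'
      exact absurd (Finset.mem_erase.2 ⟨hi, Finset.mem_univ _⟩) hi'

theorem Dat.expand (x : I → ℤ) :
    (m : ℤ) • x = x j • β + ∑ i ∈ Finset.univ.erase j, ((m : ℤ) * x i - x j * β i) • (sr i : I → ℤ) := by
  funext k
  rw [Pi.smul_apply, Pi.add_apply, Pi.smul_apply, Finset.sum_apply, smul_eq_mul, smul_eq_mul]
  by_cases hk : k = j
  · subst hk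
    rw [Finset.sum_eq_zero, D.bj, add_zero, mul_comm]
    intro i hi
    rw [Pi.smul_apply, sr_ne (Ne.symm (Finset.ne_of_mem_erase hi)), smul_zero]
  · rw [Finset.sum_eq_single k]
    · rw [Pi.smul_apply, sr_self, smul_eq_mul]; ring
    · intro i _ hi
      rw [Pi.smul_apply, sr_ne (Ne.symm hi), smul_zero]
    · intro hk'
      exact absurd (Finset.mem_erase.2 ⟨hk, Finset.mem_univ _⟩) hk'

theorem Dat.map_expand {G : Type*} [AddCommGroup G] (g : (I → ℤ) →+ G) (x : I → ℤ) :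
    (m : ℤ) • g x = x j • g β + ∑ i ∈ Finset.univ.erase j, ((m : ℤ) * x i - x j * β i) • g (sr i) := by
  rw [← map_zsmul, D.expand, map_add, map_zsmul, map_sum]
  congr 1
  exact Finset.sum_congr rfl fun i _ => map_zsmul _ _ _

theorem Dat.coef_nonneg {a : I → ℤ} (ha : a ∈ PP cs h j m) : 0 ≤ a j ∧ ∀ i, i ≠ j → 0 ≤ (m : ℤ) * a i - a j * β i :=
  ⟨ha.2.1 j, fun i hi => sub_nonneg.2 (D.nn a ha.1 ha.2.1 ha.2.2 i hi)⟩

/-- additive maps with values at least `e` on the simple roots -/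
theorem Dat.le_map {g : (I → ℤ) →+ ℤ} {f : (I → ℤ) →+ ℤ} (hfg : ∀ b ∈ Pi j β, f b ≤ g b) {a : I → ℤ}
    (ha : a ∈ PP cs h j m) : f a ≤ g a := by
  obtain ⟨h1, h2⟩ := D.coef_nonneg ha
  have h3 := D.map_expand f a
  have h4 := D.map_expand g a
  simp only [smul_eq_mul] at h3 h4
  have h5 : a j * f β ≤ a j * g β := mul_le_mul_of_nonneg_left (hfg β (Or.inl rfl)) h1
  have h6 : ∑ i ∈ Finset.univ.erase j, ((m : ℤ) * a i - a j * β i) * f (sr i) ≤
      ∑ i ∈ Finset.univ.erase j, ((m : ℤ) * a i - a j * β i) * g (sr i) :=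
    Finset.sum_le_sum fun i hi => mul_le_mul_of_nonneg_left
      (hfg _ (Or.inr ⟨i, Finset.ne_of_mem_erase hi, rfl⟩)) (h2 i (Finset.ne_of_mem_erase hi))
  have h7 : (m : ℤ) * f a ≤ m * g a := by rw [h3, h4]; exact add_le_add h5 h6
  exact le_of_mul_le_mul_left h7 D.m0

theorem Dat.eq_of_Pi {g f : (I → ℤ) →+ ℤ} (hfg : ∀ b ∈ Pi j β, f b = g b) (x : I → ℤ) : f x = g x := by
  have h3 := D.map_expand f x
  have h4 := D.map_expand g x
  simp only [smul_eq_mul] at h3 h4
  have h7 : (m : ℤ) * f x = m * g x := by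
    rw [h3, h4, hfg β (Or.inl rfl)]
    congr 1
    exact Finset.sum_congr rfl fun i hi => by rw [hfg _ (Or.inr ⟨i, Finset.ne_of_mem_erase hi, rfl⟩)]
  exact mul_left_cancel₀ D.m0.ne' h7

theorem Dat.fj_le {a : I → ℤ} (ha : a ∈ PP cs h j m) : (m : ℤ) ≤ fj j β m a ∧ (fj j β m a = m → a ∈ Pi j β) := by
  obtain ⟨h1, h2⟩ := D.coef_nonneg ha
  have hm := D.m0
  obtain ⟨t, ht⟩ := ha.2.2
  rw [fj_apply]
  by_cases h0 : a j = 0
  · rw [h0, zero_add]
    have e : ∑ i ∈ Finset.univ.erase j, ((m : ℤ) * a i - 0 * β i) = m * ∑ i ∈ Finset.univ.erase j, a i := by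
      rw [Finset.mul_sum]
      exact Finset.sum_congr rfl fun i _ => by ring
    rw [e]
    have h3 : 0 < ∑ i ∈ Finset.univ.erase j, a i := by
      by_contra hcon
      have h4 : ∑ i ∈ Finset.univ.erase j, a i = 0 :=
        le_antisymm (not_lt.1 hcon) (Finset.sum_nonneg fun i _ => ha.2.1 i)
      have h5 := (Finset.sum_eq_zero_iff_of_nonneg (fun i _ => ha.2.1 i)).1 h4
      apply ha.1.ne_zero
      funext i
      by_cases hi : i = j
      · rw [hi, h0]; rfl
      · exact h5 i (Finset.mem_erase.2 ⟨hi, Finset.mem_univ _⟩)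
    refine ⟨by nlinarith, fun h4 => ?_⟩
    have h5 : ∑ i ∈ Finset.univ.erase j, a i = 1 := mul_left_cancel₀ hm.ne' (by rw [h4, mul_one])
    obtain ⟨i, hi, h6⟩ : ∃ i ∈ Finset.univ.erase j, 0 < a i := by
      by_contra hcon
      push Not at hcon
      have := Finset.sum_nonpos hcon
      omega
    have h7 : ∑ i' ∈ (Finset.univ.erase j).erase i, a i' = 1 - a i := by
      rw [← h5, ← Finset.add_sum_erase _ _ hi]; ring
    have h8 : 0 ≤ ∑ i' ∈ (Finset.univ.erase j).erase i, a i' := Finset.sum_nonneg fun i _ => ha.2.1 i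
    have h9 : a i = 1 := by omega
    rw [h9, sub_self] at h7
    have h10 := (Finset.sum_eq_zero_iff_of_nonneg (fun i _ => ha.2.1 i)).1 h7
    refine Or.inr ⟨i, Finset.ne_of_mem_erase hi, ?_⟩
    funext k
    by_cases hk : k = i
    · rw [hk, h9, sr_self]
    · rw [sr_ne hk]
      by_cases hkj : k = j
      · rw [hkj, h0]
      · exact h10 k (Finset.mem_erase.2 ⟨hk, Finset.mem_erase.2 ⟨hkj, Finset.mem_univ _⟩⟩)
  · have ht0 : 0 < t := by
      by_contra hcon
      have : m * t ≤ 0 := mul_nonpos_of_nonneg_of_nonpos hm.le (not_lt.1 hcon)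
      omega
    have h3 : (m : ℤ) ≤ a j := by rw [ht]; nlinarith
    have h4 : 0 ≤ ∑ i ∈ Finset.univ.erase j, ((m : ℤ) * a i - a j * β i) :=
      Finset.sum_nonneg fun i hi => h2 i (Finset.ne_of_mem_erase hi)
    refine ⟨by omega, fun h5 => ?_⟩
    have h6 : a j = m := by omega
    have h7 : ∑ i ∈ Finset.univ.erase j, ((m : ℤ) * a i - a j * β i) = 0 := by omega
    have h8 := (Finset.sum_eq_zero_iff_of_nonneg (fun i hi => h2 i (Finset.ne_of_mem_erase hi))).1 h7
    left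
    funext i
    by_cases hi : i = j
    · rw [hi, h6, D.bj]
    · have h9 := h8 i (Finset.mem_erase.2 ⟨hi, Finset.mem_univ _⟩)
      rw [h6] at h9
      exact mul_left_cancel₀ hm.ne' (sub_eq_zero.1 h9)

theorem Dat.bas : Bas cs h (PP cs h j m) (fj j β m) m where
  zc :=
    { root := fun a ha => ha.1
      btw := by
        rintro x hx y hy z hz
        refine ⟨hz.1, hz.nonneg' hx.2.1 hy.2.1, ?_⟩
        obtain ⟨-, a, b, -, -, e⟩ := hz
        rw [e]
        exact dvd_add (Dvd.dvd.mul_left hx.2.2 a) (Dvd.dvd.mul_left hy.2.2 b) }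
  pos := fun a ha => ⟨ha.1, ha.2.1⟩
  c0 := D.m0
  le := fun a ha => (D.fj_le ha).1

/-- an element of `W` preserving the `j`-coordinate modulo `m` up to a scalar and positive on the simple roots maps the
positive roots of the subsystem into themselves -/
theorem Dat.map_PP {v : W} {q : ℤ} (hv : ∀ x, (m : ℤ) ∣ rep cs h v x j - q * x j)
    (hpos : ∀ b ∈ Pi j β, 0 ≤ rep cs h v b) {a : I → ℤ} (ha : a ∈ PP cs h j m) : rep cs h v a ∈ PP cs h j m := by
  refine ⟨ha.1.act v, fun i => ?_, ?_⟩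
  · have h1 := D.le_map (f := 0) (g := (Pi.evalAddMonoidHom (fun _ : I => ℤ) i).comp (rep cs h v).toAddMonoidHom)
      (fun b hb => hpos b hb i) ha
    exact h1
  · have h1 := hv a
    have h2 := dvd_add h1 (Dvd.dvd.mul_left ha.2.2 q)
    rwa [sub_add_cancel] at h2

/-- an element of `W` fixing the `j`-coordinate modulo `m` and positive on the simple roots permutes them -/
theorem Dat.map_Pi [Finite W] {v : W} (hv : ∀ x, (m : ℤ) ∣ rep cs h v x j - x j)
    (hpos : ∀ b ∈ Pi j β, 0 ≤ rep cs h v b) : ∀ b ∈ Pi j β, rep cs h v b ∈ Pi j β := by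
  have hP : ∀ a ∈ PP cs h j m, rep cs h v a ∈ PP cs h j m := fun a ha =>
    D.map_PP (q := 1) (fun x => by rw [one_mul]; exact hv x) hpos ha
  have hf : ∀ a ∈ PP cs h j m, fj j β m a ≤ fj j β m (rep cs h v a) := fun a ha =>
    D.le_map (f := fj j β m) (g := (fj j β m).comp (rep cs h v).toAddMonoidHom)
      (fun b hb => by
        rw [D.fj_Pi hb]
        exact (D.fj_le (hP b (D.mem_PP hb))).1) ha
  have hit : ∀ (n : ℕ) (a : I → ℤ), a ∈ PP cs h j m → rep cs h (v ^ n) a ∈ PP cs h j m ∧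
      fj j β m a ≤ fj j β m (rep cs h (v ^ n) a) := by
    intro n
    induction n with
    | zero => intro a ha; rw [pow_zero, map_one, Module.End.one_apply]; exact ⟨ha, le_rfl⟩
    | succ n ih =>
      intro a ha
      obtain ⟨h1, h2⟩ := ih a ha
      rw [pow_succ', rep_mul_apply]
      exact ⟨hP _ h1, h2.trans (hf _ h1)⟩
  intro b hb
  have hbP := D.mem_PP hb
  refine (D.fj_le (hP b hbP)).2 (le_antisymm ?_ (D.fj_le (hP b hbP)).1)
  have h1 : 0 < orderOf v := orderOf_pos v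
  have h2 := (hit (orderOf v - 1) (rep cs h v b) (hP b hbP)).2
  rw [← rep_mul_apply, ← pow_succ, Nat.sub_add_cancel h1, pow_orderOf_eq_one, map_one, Module.End.one_apply,
    D.fj_Pi hb] at h2
  exact h2

end Cfsg.Agent.H374.SR
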