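import Cfsg.Agent.H374.SR.Comb
import Cfsg.Agent.H129.TorusUntw

/-!
# The centraliser of `s u` in `D.group k` (helper374, S4971)

`k` algebraically closed and locally finite, `s` in the torus with `x(s) = ζ ^ (x j)`, `u` in the unipotent group of the
subsystem `{a : m ∣ a j}` with simple coordinates `1`.

* `exists_TT_Pi` : torus elements with prescribed values on the simple roots of the subsystem;
* `fixT` : torus elements trivial on the simple roots are fixed by the frame automorphism;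
* `cent` : an element commuting with `s` and `u` is `u' t`, `t` in the torus, trivial on the simple roots.
-/

set_option autoImplicit false
set_option linter.unusedSectionVars false

namespace Cfsg.Agent.H374.SR

open CoxeterSystem Cfsg Cfsg.Lie Cfsg.Lie.ChevalleyDatum
open Cfsg.Agent.ChevalleyStructure Cfsg.Agent.ChevalleyStructure.Elts Cfsg.Agent.ChevalleyStructure.CoxeterGeom
  Cfsg.Agent.ChevalleyStructure.CoxeterGeomTypes Cfsg.Agent.ChevalleyStructure.NPerm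
open Cfsg.Agent.Tits.Roots Cfsg.Agent.Tits.Core Cfsg.Agent.Nodes Cfsg.Agent.Nodes.Reps Cfsg.Agent.Nodes.BNOf
  Cfsg.Agent.Nodes.RGDChev Cfsg.Agent.Nodes.Bruhat
open Cfsg.Agent.KFacts.RgdField Cfsg.Agent.KFacts.RgdChevCoord Cfsg.Agent.BpExc.TorCent Cfsg.Agent.BpExc.TorChev
open Cfsg.Agent.GpExc.Field Cfsg.Agent.BpExc.Tow Cfsg.Agent.BpExc.TowChev Cfsg.Agent.BpExc.Fr
  Cfsg.Agent.BpExc.LangFr Cfsg.Agent.H129.TorusChar Cfsg.Agent.BpExc Cfsg.Agent.BpExc.Zc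

universe u

variable {D : ChevalleyDatum} {l : ℕ} {M : CoxeterMatrix (Fin l)} (hp : IsType D l M)
  {k : Type u} [Field k] {r e : ℕ} [Fact r.Prime] [CharP k r] {j : Fin l} {m : ℕ} {β : Fin l → ℤ}

theorem rp_cast {I W Y : Type*} [Fintype I] [DecidableEq I] [Group W] [Group Y] {M : CoxeterMatrix I}
    {cs : CoxeterSystem M W} {T T' : Subgroup Y} {n : I → Y} (h : T = T') {hN : NSys M T n} {hN' : NSys M T' n}
    {w : W} {g : Y} (h1 : Rp cs hN w g) : Rp cs hN' w g := by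
  subst h
  exact h1

/-- the integral commutator relations of the levels -/
theorem commZ (E : Lev k) : CommZ M.toCoxeterSystem hp.isCartan (Xj hp E) := by
  intro x y hx hy hxy hxy' a ha b hb
  refine RGD.Sup_mono (S := CommZ.combZ M.toCoxeterSystem hp x y) ?_
    (CommZ.comm_mem_Zj hp M.toCoxeterSystem E hx hy hxy hxy' ha hb)
  rintro z ⟨hz, i, j, hi, hj, e⟩
  exact ⟨hz, i, j, by exact_mod_cast hi, by exact_mod_cast hj, by rw [e, natCast_zsmul, natCast_zsmul]⟩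

/-- prescribed values on the simple roots of the subsystem -/
theorem exists_TT_Pi [IsAlgClosed k] {d : ℕ} {B : Fin l → Fin l → ℤ} (hB : InvC D l d B) (hd : d ≠ 0)
    (Dt : Dat M.toCoxeterSystem hp.isCartan j m β) (a : (Fin l → ℤ) → k) (ha : ∀ b ∈ Pi j β, a b ≠ 0) :
    ∃ t ∈ TT D k, ∀ b ∈ Pi j β, cX hp t b = a b := by
  have hm0 : 0 < m := by have := Dt.m2; omega
  obtain ⟨y, hy⟩ := IsAlgClosed.exists_pow_nat_eq (a β * (∏ i ∈ Finset.univ.erase j, a (sr i) ^ β i)⁻¹) hm0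
  have hne : ∀ i ∈ Finset.univ.erase j, a (sr i) ^ β i ≠ 0 := fun i hi =>
    zpow_ne_zero _ (ha _ (Or.inr ⟨i, Finset.ne_of_mem_erase hi, rfl⟩))
  have hprod : ∏ i ∈ Finset.univ.erase j, a (sr i) ^ β i ≠ 0 := Finset.prod_ne_zero_iff.2 hne
  have hy0 : y ≠ 0 := by
    rintro rfl
    rw [zero_pow hm0.ne'] at hy
    exact mul_ne_zero (ha β (Or.inl rfl)) (inv_ne_zero hprod) hy.symm
  let c : Fin l → k := fun i => if i = j then y else a (sr i)
  have hc0 : ∀ i, c i ≠ 0 := by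
    intro i
    by_cases hi : i = j
    · simp only [c, if_pos hi]; exact hy0
    · simp only [c, if_neg hi]; exact ha _ (Or.inr ⟨i, hi, rfl⟩)
  obtain ⟨t, ht, hX⟩ := exists_cX hp hB hd (IsMC.of_prod c hc0)
    (fun i => IsAlgClosed.exists_pow_nat_eq _ (Nat.pos_of_ne_zero hd))
  refine ⟨t, ht, ?_⟩
  rintro b (rfl | ⟨i, hi, rfl⟩)
  · rw [hX, ← Finset.mul_prod_erase _ _ (Finset.mem_univ j)]
    have e1 : ∏ i ∈ Finset.univ.erase j, c i ^ b i = ∏ i ∈ Finset.univ.erase j, a (sr i) ^ b i :=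
      Finset.prod_congr rfl fun i hi => by simp only [c, if_neg (Finset.ne_of_mem_erase hi)]
    rw [e1, Dt.bj, zpow_natCast]
    simp only [c, if_true]
    rw [hy, inv_mul_cancel_right₀ hprod]
  · rw [hX, Finset.prod_eq_single i]
    · rw [sr_self, zpow_one]
      simp only [c, if_neg hi]
    · intro i' _ hi'
      rw [sr_ne hi', zpow_zero]
    · intro h; exact absurd (Finset.mem_univ i) h

/-- the characters of the torus elements trivial on the simple roots -/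
theorem cX_of_Pi (Dt : Dat M.toCoxeterSystem hp.isCartan j m β) {t : ↥(D.group k)} (ht : t ∈ TT D k)
    (hb : ∀ b ∈ Pi j β, cX hp t b = 1) : cX hp t (sr j) ^ m = 1 ∧ ∀ x, cX hp t x = cX hp t (sr j) ^ x j := by
  have hmc := isMC_cX hp ht
  have h1 : ∀ x, cX hp t x = cX hp t (sr j) ^ x j := by
    intro x
    rw [hmc.eq_prod x, Finset.prod_eq_single j]
    · intro i _ hi
      rw [hb _ (Or.inr ⟨i, hi, rfl⟩), one_zpow]
    · intro h; exact absurd (Finset.mem_univ j) h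
  refine ⟨?_, h1⟩
  have h2 := h1 β
  rw [Dt.bj, zpow_natCast, hb β (Or.inl rfl)] at h2
  exact h2.symm

/-- torus elements trivial on the simple roots are fixed -/
theorem fixT [IsAlgClosed k] (Dt : Dat M.toCoxeterSystem hp.isCartan j m β) {σ : MulAut ↥(D.group k)} {w : M.Group}
    (hσ : IsFrob r e σ)
    (F : Fr M.toCoxeterSystem hp.isCartan (TT D k) (XX D l k) σ (repAut (h := hp.isCartan) M.toCoxeterSystem w))
    (hw : ∀ x, (m : ℤ) ∣ rep M.toCoxeterSystem hp.isCartan w x j - ((r ^ e : ℕ) : ℤ) * x j)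
    {t : ↥(D.group k)} (ht : t ∈ TT D k) (hb : ∀ b ∈ Pi j β, cX hp t b = 1) : σ t = t := by
  obtain ⟨h1, h2⟩ := cX_of_Pi hp Dt ht hb
  have hη : cX hp t (sr j) ≠ 0 := (isMC_cX hp ht).ne_zero _
  refine cX_inj hp ((F.tor t).2 ht) ht fun i => ?_
  obtain ⟨x, hx⟩ : ∃ x, rep M.toCoxeterSystem hp.isCartan w x = sr i :=
    ⟨rep M.toCoxeterSystem hp.isCartan w⁻¹ (sr i), rep_apply_inv _ _ _ _⟩
  have h3 := cX_sigma hp M.toCoxeterSystem hσ F ht x
  rw [repAut_apply, hx] at h3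
  rw [h3, ← hx, h2 (rep _ _ w x), h2 x]
  obtain ⟨c, hc⟩ := hw x
  have h4 : rep M.toCoxeterSystem hp.isCartan w x j = (m : ℤ) * c + ((r ^ e : ℕ) : ℤ) * x j := by linarith
  rw [h4, zpow_add₀ hη, zpow_mul, zpow_natCast, h1, one_zpow, one_mul, mul_comm, zpow_mul, zpow_natCast]

variable (hk : LocFin k)

theorem xc_mem_Xj (E : Lev k) {b : Fin l → ℤ} (hb : IsRoot M.toCoxeterSystem hp.isCartan b) :
    xc hp b (1 : k) ∈ Xj hp E b := by
  obtain ⟨a, ha, rfl⟩ := (isRoot_iff hp M.toCoxeterSystem b).1 hb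
  refine ⟨xc hp (vec D l a) (1 : ↥E.1), (BpExc.HX.mem_XX_xc hp ha).2 ⟨1, rfl⟩, ?_⟩
  rw [emb_xc]
  rfl

include hk

/-- **The centraliser of `s u`.** -/
theorem cent (r : ℕ) [Fact r.Prime] [CharP k r] (Dt : Dat M.toCoxeterSystem hp.isCartan j m β)
    (hstab : ∀ v : M.Group, (∀ x, (m : ℤ) ∣ rep M.toCoxeterSystem hp.isCartan v x j - x j) →
      (∀ b ∈ Pi j β, rep M.toCoxeterSystem hp.isCartan v b ∈ Pi j β) → v = 1)
    {s : ↥(D.group k)} (hs : s ∈ TT D k) {ζ : k} (hζ : IsPrimitiveRoot ζ m) (hsx : ∀ x, cX hp s x = ζ ^ x j)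
    {y0 : ↥(D.group k)}
    (hy0 : y0 ∈ RGD.Sup (XX D l k) (Com (PP M.toCoxeterSystem hp.isCartan j m) (fj j β m) m))
    {L : List (Fin l → ℤ)} (hL : ∀ b, b ∈ L ↔ b ∈ Pi j β) (hLn : L.Nodup) {c : ↥(D.group k)}
    (hc1 : c * s = s * c)
    (hc2 : c * (y0 * (L.map fun b => xc hp b (1 : k)).prod) = (y0 * (L.map fun b => xc hp b (1 : k)).prod) * c) :
    ∃ u ∈ RGD.Sup (XX D l k) (PP M.toCoxeterSystem hp.isCartan j m), ∃ t ∈ TT D k,
      (∀ b ∈ Pi j β, cX hp t b = 1) ∧ c = u * t := by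
  have hWf := finite_W hp M.toCoxeterSystem
  have H := tow hp M.toCoxeterSystem hk r
  have C := coordsL hp M.toCoxeterSystem hk r
  have hTL := TL_eq (k := k) hp hk
  have hXL := XL_eq (k := k) hp hk
  have B := Dt.bas
  obtain ⟨E1, h1⟩ := H.mem_GG (y := c).1 (by rw [GG_eq_top hp _ hk]; exact Subgroup.mem_top c)
  obtain ⟨E2, h2⟩ := H.mem_TL (y := s).1 (by rw [hTL]; exact hs)
  obtain ⟨E3, h3⟩ := H.mem_Sup (y := y0)
    (S := Com (PP M.toCoxeterSystem hp.isCartan j m) (fj j β m) m) |>.1 (by rw [hXL]; exact hy0)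
  obtain ⟨E4, a1, a2⟩ := H.dir E1 E2
  obtain ⟨E, a3, a4⟩ := H.dir E4 E3
  replace h1 := H.mono_GG (a1.trans a3) h1
  replace h2 := H.monoT (a2.trans a3) h2
  replace h3 := H.mono_Sup _ a4 h3
  have R := H.rgd E
  have hZ := commZ (M := M) hp E
  have hXE : ∀ a, Xj hp E a ≤ XX D l k a := fun a => by rw [← hXL]; exact le_XL E a
  obtain ⟨u, hu, w', kk, hkk, hks, v, hv, rfl⟩ := conj_form R h2 h2 h1 hc1
  -- the elements of `Sup (X ⊓ C(s)) Pos`
  have hle : RGD.Sup (fun a => Xj hp E a ⊓ Subgroup.centralizer {s}) (RGD.Pos M.toCoxeterSystem hp.isCartan) ≤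
      RGD.Sup (Xj hp E) (PP M.toCoxeterSystem hp.isCartan j m) := by
    refine RGD.Sup_le fun a ha => ?_
    rintro y ⟨hy, hyc⟩
    by_cases hy1 : y = 1
    · rw [hy1]; exact one_mem _
    · have h5 := mem_Sx_of_centralizer C hs ha.1 (hXE a hy) hy1 hyc
      refine RGD.le_Sup (S := PP M.toCoxeterSystem hp.isCartan j m) ⟨ha.1, ha.2, ?_⟩ hy
      have h6 := h5.2
      rw [← cX_root hp M.toCoxeterSystem hs ha.1, hsx, hζ.zpow_eq_one_iff_dvd] at h6
      exact h6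
  replace hu := hle hu
  replace hv := hle hv
  have hkL := H.rp_up hkk
  -- `w'` fixes the `j`-coordinate modulo `m`
  have hw'1 : ∀ x, (m : ℤ) ∣ rep M.toCoxeterSystem hp.isCartan w' x j - x j := by
    intro x
    have hkk' : Rp M.toCoxeterSystem (H129.TorusUntw.nsys_of_locFin hp M.toCoxeterSystem hk r) w' kk :=
      rp_cast hTL hkL
    have h5 := cX_rp hp M.toCoxeterSystem hk r hkk' hs x
    have h6 : kk * s * kk⁻¹ = s := by rw [hks]; group
    rw [h6, hsx, hsx] at h5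
    have h7 : ζ ^ (rep M.toCoxeterSystem hp.isCartan w' x j - x j) = 1 := by
      have hζ0 : ζ ≠ 0 := hζ.ne_zero (by have := Dt.m2; omega)
      rw [zpow_sub₀ hζ0, h5, div_self (zpow_ne_zero _ hζ0)]
    exact (hζ.zpow_eq_one_iff_dvd _).1 h7
  -- coordinates
  obtain ⟨v0, hv0⟩ : ∃ v0, v0 = (L.map fun b => xc hp b (1 : k)).prod := ⟨_, rfl⟩
  rw [← hv0] at hc2
  have hcoo : ∀ b ∈ Pi j β, Coo (Xj hp E) (PP M.toCoxeterSystem hp.isCartan j m) b (y0 * v0) (xc hp b (1 : k)) := by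
    intro b hb
    have h5 := B.coo_prod R hZ (Dt.mem_PP hb) (Dt.fj_Pi hb) (y := fun b => xc hp b (1 : k)) L
      (fun b' hb' => ⟨Dt.mem_PP ((hL b').1 hb'), xc_mem_Xj hp E (Dt.mem_PP ((hL b').1 hb')).1⟩) hLn
    rw [if_pos ((hL b).2 hb), ← hv0] at h5
    have h6 : Coo (Xj hp E) (PP M.toCoxeterSystem hp.isCartan j m) b y0 1 :=
      coo_of_mem (RGD.Sup_mono (B.com_sub (Dt.fj_Pi hb)) h3)
    have h7 := B.coo_mul R hZ (Dt.mem_PP hb) (Dt.fj_Pi hb) h6 h5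
    rwa [one_mul] at h7
  have hab : ∀ b ∈ Pi j β, ∀ a ∈ Xj hp E b, ∀ a' ∈ Xj hp E b, a * a' = a' * a := by
    intro b hb a ha a' ha'
    obtain ⟨s1, rfl⟩ := ((C.coord b (Dt.mem_PP hb).1).mem a).1 (hXE b ha)
    obtain ⟨s2, rfl⟩ := ((C.coord b (Dt.mem_PP hb).1).mem a').1 (hXE b ha')
    rw [← (C.coord b (Dt.mem_PP hb).1).add, ← (C.coord b (Dt.mem_PP hb).1).add, add_comm]
  have hcv : ∀ b ∈ Pi j β, Coo (Xj hp E) (PP M.toCoxeterSystem hp.isCartan j m) b (v * (y0 * v0) * v⁻¹)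
      (xc hp b (1 : k)) := fun b hb =>
    B.coo_conj R hZ (Dt.mem_PP hb) (Dt.fj_Pi hb) (hab b hb) hv (hcoo b hb)
  have hcu : ∀ b ∈ Pi j β, Coo (Xj hp E) (PP M.toCoxeterSystem hp.isCartan j m) b (u⁻¹ * (y0 * v0) * u⁻¹⁻¹)
      (xc hp b (1 : k)) := fun b hb =>
    B.coo_conj R hZ (Dt.mem_PP hb) (Dt.fj_Pi hb) (hab b hb) (inv_mem hu) (hcoo b hb)
  have hkey : kk * (v * (y0 * v0) * v⁻¹) * kk⁻¹ = u⁻¹ * (y0 * v0) * u⁻¹⁻¹ := by
    have e1 : kk * (v * (y0 * v0) * v⁻¹) * kk⁻¹ = u⁻¹ * (u * kk * v * (y0 * v0)) * (v⁻¹ * kk⁻¹) := by group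
    rw [e1, hc2]; group
  have hpos : ∀ b ∈ Pi j β, 0 ≤ rep M.toCoxeterSystem hp.isCartan w' b := by
    intro b hb
    refine B.pos_of_conj R hZ (Dt.mem_PP hb) (Dt.fj_Pi hb) hkk (hcv b hb)
      ((C.coord b (Dt.mem_PP hb).1).ne_one one_ne_zero) ?_
    rw [hkey]
    exact RGD.Sup_mono (S := PP M.toCoxeterSystem hp.isCartan j m) (S' := RGD.Pos M.toCoxeterSystem hp.isCartan)
      (fun a ha => ⟨ha.1, ha.2.1⟩) ((hcu b hb).mem (Dt.mem_PP hb))
  have hw'2 := Dt.map_Pi hw'1 hpos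
  have hw' : w' = 1 := hstab w' hw'1 hw'2
  subst hw'
  have hkT := hkk.mem_of_one
  have hkT' : kk ∈ TT D k := by rw [← hTL]; exact le_TL E hkT
  refine ⟨u * (kk * v * kk⁻¹), ?_, kk, hkT', fun b hb => ?_, by group⟩
  · refine mul_mem ?_ ?_
    · rw [← hXL]; exact Sup_le_SupL E _ hu
    · have h5 := (Subgroup.mem_normalizer_iff.1 (R.T_le_normalizer (S := PP M.toCoxeterSystem hp.isCartan j m)
        (fun x hx => hx.1) hkT) v).1 hv
      rw [← hXL]; exact Sup_le_SupL E _ h5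
  · have h5 := coo_tor (cs := M.toCoxeterSystem) (h := hp.isCartan) R (fun a ha => ha.1) (Dt.mem_PP hb) hkT (hcv b hb)
    rw [hkey] at h5
    have h6 := B.coo_uniq R hZ (Dt.mem_PP hb) (Dt.fj_Pi hb) (hcu b hb) h5
    rw [(C.coord b (Dt.mem_PP hb).1).act kk hkT' 1, mul_one] at h6
    have h7 := (C.coord b (Dt.mem_PP hb).1).inj h6
    rw [cX_root hp M.toCoxeterSystem hkT' (Dt.mem_PP hb).1, ← h7]

end Cfsg.Agent.H374.SR
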