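import Cfsg.Agent.H196.SRX.Final
import Cfsg.Prelude.Def_LieChev

/-!
# TEAM SR (S4971): the row `E8` (helper374)
-/

set_option autoImplicit false

namespace Cfsg.Agent.H374.SR

open Cfsg.Agent.H721.SR

/-- `E8(q)` has non-real elements -/
theorem nrel_isoE8 {S : Type*} [Group S] (h : Cfsg.Lie.IsoE8 S) : NRel S := by
  obtain ⟨F, _, _, ⟨e⟩⟩ := h
  exact NRel.congr e.symm Cfsg.Agent.H196.SRX.nrel_e8

theorem rr_e8 {S : Type*} [Group S] (h : Cfsg.Lie.IsoE8 S) : RR S := RR.of_nrel (nrel_isoE8 h)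

end Cfsg.Agent.H374.SR
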