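import Cfsg.Agent.BpExc.NChev
import Cfsg.Agent.BpExc.FixRel
import Cfsg.Agent.Nodes.Unique

/-!
# Coordinates of the unipotent group of a closed subsystem with respect to its simple roots (helper374, S4971)

`P` an integrally closed set of positive roots, `f` a functional with `c ≤ f a` on `P`; the roots with `f a = c` are
"simple". `Coo β u y` : the `β`-coordinate of `u ∈ Sup X P` is `y ∈ X β` (`β` simple).
-/

set_option autoImplicit false
set_option linter.unusedSectionVars false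

namespace Cfsg.Agent.H374.SR

open CoxeterSystem Cfsg.Agent.ChevalleyStructure.CoxeterGeom Cfsg.Agent.Tits.Roots Cfsg.Agent.Tits.Core
  Cfsg.Agent.Tits.Exchange Cfsg.Agent.Nodes.Reps Cfsg.Agent.Nodes.BNOf Cfsg.Agent.Nodes.StabComb
  Cfsg.Agent.Nodes.Comb Cfsg.Agent.Nodes.Bruhat Cfsg.Agent.Nodes.OppDec Cfsg.Agent.Nodes.Slope
  Cfsg.Agent.Nodes.NormalForm Cfsg.Agent.Nodes.SubComb Cfsg.Agent.Nodes.Coroot
  Cfsg.Agent.ChevalleyStructure.AbstractBN Cfsg.Agent.BpExc.Zc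
open scoped commutatorElement

variable {I W Y : Type*} [Fintype I] [DecidableEq I] [Group W] [Group Y] {M : CoxeterMatrix I}
  {cs : CoxeterSystem M W} {A : I → I → ℤ} {h : IsCartan M A} {p : ℕ} {T : Subgroup Y} {n : I → Y}
  {X : (I → ℤ) → Subgroup Y}

theorem pos_of_ht {b : I → ℤ} (hb : IsRoot cs h b) (h0 : 0 < htHom b) : 0 ≤ b := by
  rcases hb.pos_or_neg with h3 | h3
  · exact h3
  · exfalso
    have h4 := RGD.ht_pos hb.neg (neg_nonneg.2 h3)
    have h5 : ht (-b) = - ht b := by unfold ht; simp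
    have h6 : (htHom b : ℤ) = ht b := rfl
    omega

theorem neg_of_ht {b : I → ℤ} (hb : IsRoot cs h b) (h0 : htHom b ≤ 0) : b ≤ 0 := by
  rcases hb.pos_or_neg with h3 | h3
  · exfalso
    have h4 := RGD.ht_pos hb h3
    have h6 : (htHom b : ℤ) = ht b := rfl
    omega
  · exact h3

/-- `X a` meets the group of an integrally closed set of positive roots not containing `a` trivially (proof of helper85). -/
theorem X_inf_Sup [Finite W] (R : RGD cs h p T n X) (hZ : CommZ cs h X) {S' : Set (I → ℤ)} (hS' : ZClosed cs h S')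
    (hP : S' ⊆ RGD.Pos cs h) {a : I → ℤ} (ha : IsRoot cs h a) (haS : a ∉ S') {x : Y} (hx : x ∈ X a)
    (hx' : x ∈ RGD.Sup X S') : x = 1 := by
  obtain ⟨v, i, rfl⟩ := id ha
  obtain ⟨k, hk⟩ := exists_rp cs R.nsys v⁻¹
  set S2 : Set (I → ℤ) := {b | rep cs h v b ∈ S'} with hS2
  have hS2Z : ZClosed cs h S2 := by
    refine ⟨fun b hb => ?_, ?_⟩
    · have := (hS'.root _ hb).act v⁻¹
      rwa [rep_inv_apply] at this
    · rintro b hb c hc z ⟨hz, m, l, hm, hl, e⟩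
      exact hS'.btw _ hb _ hc _ ⟨hz.act v, m, l, hm, hl, by rw [e, map_add, map_smul, map_smul]⟩
  have h1 : k * x * k⁻¹ ∈ X (sr i) := by
    have := R.conj_mem hk ha hx
    rwa [rep_inv_apply] at this
  have h2 : k * x * k⁻¹ ∈ RGD.Sup X S2 :=
    conj_mem_Sup R hk (S := S') (S' := S2) hS'.root (fun b hb => by
      show rep cs h v (rep cs h v⁻¹ b) ∈ S'
      rw [rep_apply_inv]; exact hb) hx'
  obtain ⟨a', ha', c', hc', e⟩ := splitZ R hZ hS2Z (htHom.comp (rep cs h v).toAddMonoidHom) htHom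
    (fun b hb => RGD.ht_pos (hS'.root _ hb) (hP hb).2) h2
  have haU : a' ∈ RGD.Sup X (RGD.Pos cs h) :=
    RGD.Sup_mono (S := {x | x ∈ S2 ∧ 0 < htHom x}) (S' := RGD.Pos cs h) (fun b hb => ⟨hS2Z.root b hb.1, pos_of_ht (hS2Z.root b hb.1) hb.2⟩) ha'
  have hxU : k * x * k⁻¹ ∈ RGD.Sup X (RGD.Pos cs h) := RGD.le_Sup (S := RGD.Pos cs h) (z := sr i)
    ⟨isRoot_sr cs h i, sr_nonneg i⟩ h1
  have hc1 : c' = 1 := by
    refine eq_one_of_mem_UN_of_mem_B R (RGD.Sup_mono (S := {x | x ∈ S2 ∧ htHom x ≤ 0}) (S' := Neg cs h)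
      (fun b hb => ⟨hS2Z.root b hb.1, neg_of_ht (hS2Z.root b hb.1) hb.2⟩) hc') ?_
    have : c' = a'⁻¹ * (k * x * k⁻¹) := by rw [e]; group
    rw [this]
    exact mul_mem (inv_mem (RGD.U_le_B haU)) (RGD.U_le_B hxU)
  rw [hc1, mul_one] at e
  -- conjugation by `n i`
  obtain ⟨k', hk'⟩ := exists_rp cs R.nsys (cs.simple i)
  have h3 : k' * (k * x * k⁻¹) * k'⁻¹ ∈ X (-sr i) := by
    have := R.conj_mem hk' (isRoot_sr cs h i) h1
    rwa [rep_simple_sr] at this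
  have h4 : k' * (k * x * k⁻¹) * k'⁻¹ ∈ RGD.Sup X (RGD.Pos cs h) := by
    rw [e]
    refine conj_mem_Sup R hk' (S := {x | x ∈ S2 ∧ 0 < htHom x}) (fun b hb => hS2Z.root b hb.1) (fun b hb => ?_) ha'
    have hb1 := hS2Z.root b hb.1
    have h5 : b ∈ Cfsg.Agent.Nodes.Unique.Fut cs h (1 * cs.simple i) := by
      rw [Cfsg.Agent.Nodes.Unique.fut_mul (w := 1) (by rw [map_one, Module.End.one_apply]; exact sr_nonneg i), Cfsg.Agent.Nodes.Unique.fut_one]
      refine ⟨⟨hb1, pos_of_ht hb1 hb.2⟩, ?_⟩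
      rw [map_one, Module.End.one_apply]
      rintro rfl
      exact haS hb.1
    rw [one_mul] at h5
    have h6 := h5.2.2
    rw [cs.inv_simple] at h6
    exact ⟨hb1.act _, h6⟩
  have h5 := eq_one_of_mem_UN_of_mem_B R (RGD.le_Sup (S := Neg cs h) (z := -sr i)
    ⟨(isRoot_sr cs h i).neg, neg_nonpos.2 (sr_nonneg i)⟩ h3) (RGD.U_le_B h4)
  rw [conj_eq_one_iff, conj_eq_one_iff] at h5
  exact h5

/-! ### simple roots of a closed set of positive roots -/

/-- `P` closed, positive, `c ≤ f` on `P`. -/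
structure Bas (cs : CoxeterSystem M W) (h : IsCartan M A) (P : Set (I → ℤ)) (f : (I → ℤ) →+ ℤ) (c : ℤ) : Prop where
  zc : ZClosed cs h P
  pos : P ⊆ RGD.Pos cs h
  c0 : 0 < c
  le : ∀ a ∈ P, c ≤ f a

/-- the non-simple roots -/
def Com (P : Set (I → ℤ)) (f : (I → ℤ) →+ ℤ) (c : ℤ) : Set (I → ℤ) := {a | a ∈ P ∧ c < f a}

/-- the `β`-coordinate of `u` is `y` -/
def Coo (X : (I → ℤ) → Subgroup Y) (P : Set (I → ℤ)) (β : I → ℤ) (u y : Y) : Prop :=
  y ∈ X β ∧ y⁻¹ * u ∈ RGD.Sup X (P \ {β})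

section

variable {P : Set (I → ℤ)} {f : (I → ℤ) →+ ℤ} {c : ℤ} (B : Bas cs h P f c)

include B

theorem Bas.zb_lt {x y z : I → ℤ} (hx : x ∈ P) (hy : y ∈ P) (hz : ZB cs h x y z) : c < f z := by
  obtain ⟨a, b, ha, hb, e⟩ := hz.map f
  have h1 := B.le x hx
  have h2 := B.le y hy
  have h3 := B.c0
  have h4 : c ≤ a * f x := by nlinarith
  have h5 : c ≤ b * f y := by nlinarith
  rw [e]
  linarith

theorem Bas.ne_neg {x y : I → ℤ} (hx : x ∈ P) (hy : y ∈ P) : x ≠ -y := by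
  rintro rfl
  have h1 := B.le _ hx
  have h2 := B.le _ hy
  have h3 := B.c0
  rw [map_neg] at h1
  linarith

theorem Bas.diff {β : I → ℤ} (hβ : f β = c) : ZClosed cs h (P \ {β}) where
  root x hx := B.zc.root x hx.1
  btw x hx y hy z hz := by
    refine ⟨B.zc.btw x hx.1 y hy.1 z hz, ?_⟩
    rintro rfl
    have := B.zb_lt hx.1 hy.1 hz
    omega

theorem Bas.com : ZClosed cs h (Com P f c) where
  root x hx := B.zc.root x hx.1
  btw x hx y hy z hz := ⟨B.zc.btw x hx.1 y hy.1 z hz, B.zb_lt hx.1 hy.1 hz⟩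

theorem Bas.com_sub {β : I → ℤ} (hβ : f β = c) : Com P f c ⊆ P \ {β} := by
  rintro a ⟨ha, h1⟩
  refine ⟨ha, ?_⟩
  rintro rfl
  omega

variable (R : RGD cs h p T n X) (hZ : CommZ cs h X)

include R hZ

theorem Bas.norm {β a : I → ℤ} (hβ : f β = c) (ha : a ∈ P) :
    X a ≤ Subgroup.normalizer (RGD.Sup X (P \ {β}) : Set Y) :=
  le_normalizerZ R hZ (B.zc.root a ha) fun y hy => ⟨B.zc.root y hy.1, Or.inr ⟨B.ne_neg ha hy.1, fun z hz => by
    refine ⟨B.zc.btw a ha y hy.1 z hz, ?_⟩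
    rintro rfl
    have := B.zb_lt ha hy.1 hz
    omega⟩⟩

theorem Bas.norm_com {a : I → ℤ} (ha : a ∈ P) :
    X a ≤ Subgroup.normalizer (RGD.Sup X (Com P f c) : Set Y) :=
  le_normalizerZ R hZ (B.zc.root a ha) fun y hy => ⟨B.zc.root y hy.1, Or.inr ⟨B.ne_neg ha hy.1, fun z hz =>
    ⟨B.zc.btw a ha y hy.1 z hz, B.zb_lt ha hy.1 hz⟩⟩⟩

theorem Bas.normU {β : I → ℤ} (hβ : f β = c) :
    RGD.Sup X P ≤ Subgroup.normalizer (RGD.Sup X (P \ {β}) : Set Y) :=
  RGD.Sup_le fun _ ha => B.norm R hZ hβ ha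

theorem Bas.conj_mem {β : I → ℤ} (hβ : f β = c) {u m : Y} (hu : u ∈ RGD.Sup X P) (hm : m ∈ RGD.Sup X (P \ {β})) :
    u * m * u⁻¹ ∈ RGD.Sup X (P \ {β}) :=
  (Subgroup.mem_normalizer_iff.1 (B.normU R hZ hβ hu) m).1 hm

omit B R hZ in
theorem Coo.mem {β : I → ℤ} (hβ : β ∈ P) {u y : Y} (h1 : Coo X P β u y) : u ∈ RGD.Sup X P := by
  have e : u = y * (y⁻¹ * u) := by group
  rw [e]
  exact mul_mem (RGD.le_Sup hβ h1.1) (RGD.Sup_mono Set.sdiff_subset h1.2)

theorem Bas.coo_mul {β : I → ℤ} (hβP : β ∈ P) (hβ : f β = c) {u y u' y' : Y} (h1 : Coo X P β u y)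
    (h2 : Coo X P β u' y') : Coo X P β (u * u') (y * y') := by
  refine ⟨mul_mem h1.1 h2.1, ?_⟩
  have e : (y * y')⁻¹ * (u * u') = y'⁻¹ * (y⁻¹ * u) * y'⁻¹⁻¹ * (y'⁻¹ * u') := by group
  rw [e]
  exact mul_mem (B.conj_mem R hZ hβ (inv_mem (RGD.le_Sup hβP h2.1)) h1.2) h2.2

theorem Bas.coo_inv {β : I → ℤ} (hβP : β ∈ P) (hβ : f β = c) {u y : Y} (h1 : Coo X P β u y) :
    Coo X P β u⁻¹ y⁻¹ := by
  refine ⟨inv_mem h1.1, ?_⟩
  have e : y⁻¹⁻¹ * u⁻¹ = y * (y⁻¹ * u)⁻¹ * y⁻¹ := by group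
  rw [e]
  exact B.conj_mem R hZ hβ (RGD.le_Sup hβP h1.1) (inv_mem h1.2)

omit hZ R B in
theorem coo_one {β : I → ℤ} : Coo X P β (1 : Y) 1 := ⟨one_mem _, by rw [inv_one, one_mul]; exact one_mem _⟩

omit hZ R B in
theorem coo_self {β : I → ℤ} {y : Y} (hy : y ∈ X β) : Coo X P β y y :=
  ⟨hy, by rw [inv_mul_cancel]; exact one_mem _⟩

omit hZ R B in
theorem coo_of_mem {β : I → ℤ} {u : Y} (hu : u ∈ RGD.Sup X (P \ {β})) : Coo X P β u 1 :=
  ⟨one_mem _, by rw [inv_one, one_mul]; exact hu⟩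

theorem Bas.coo_exists {β : I → ℤ} (hβP : β ∈ P) (hβ : f β = c) {u : Y} (hu : u ∈ RGD.Sup X P) :
    ∃ y, Coo X P β u y := by
  let K : Subgroup Y :=
    { carrier := {u | ∃ y, Coo X P β u y}
      mul_mem' := by
        rintro a b ⟨y, hy⟩ ⟨z, hz⟩
        exact ⟨_, B.coo_mul R hZ hβP hβ hy hz⟩
      one_mem' := ⟨1, coo_one⟩
      inv_mem' := by
        rintro a ⟨y, hy⟩
        exact ⟨_, B.coo_inv R hZ hβP hβ hy⟩ }
  have h1 : RGD.Sup X P ≤ K := by
    refine RGD.Sup_le fun a ha y hy => ?_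
    by_cases hab : a = β
    · subst hab
      exact ⟨y, coo_self hy⟩
    · exact ⟨1, coo_of_mem (RGD.le_Sup (S := P \ {β}) ⟨ha, hab⟩ hy)⟩
  exact h1 hu

theorem Bas.coo_uniq [Finite W] {β : I → ℤ} (hβP : β ∈ P) (hβ : f β = c) {u y z : Y} (h1 : Coo X P β u y)
    (h2 : Coo X P β u z) : y = z := by
  have h3 : y⁻¹ * z = 1 := by
    refine X_inf_Sup R hZ (B.diff hβ) (fun a ha => B.pos ha.1) (B.zc.root β hβP) (fun h' => h'.2 rfl)
      (mul_mem (inv_mem h1.1) h2.1) ?_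
    have e : y⁻¹ * z = (y⁻¹ * u) * (z⁻¹ * u)⁻¹ := by group
    rw [e]
    exact mul_mem h1.2 (inv_mem h2.2)
  exact inv_mul_eq_one.1 h3

/-- conjugation by elements of `Sup X P` -/
theorem Bas.coo_conj {β : I → ℤ} (hβP : β ∈ P) (hβ : f β = c) (hab : ∀ a ∈ X β, ∀ b ∈ X β, a * b = b * a)
    {b u y : Y} (hb : b ∈ RGD.Sup X P) (h1 : Coo X P β u y) : Coo X P β (b * u * b⁻¹) y := by
  obtain ⟨z, hz⟩ := B.coo_exists R hZ hβP hβ hb
  have h2 := B.coo_mul R hZ hβP hβ (B.coo_mul R hZ hβP hβ hz h1) (B.coo_inv R hZ hβP hβ hz)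
  have e : z * y * z⁻¹ = y := by rw [hab z hz.1 y h1.1]; group
  rwa [e] at h2

omit B hZ in
/-- conjugation by elements of `T` -/
theorem coo_tor (hP : ∀ a ∈ P, IsRoot cs h a) {β : I → ℤ} (hβP : β ∈ P) {t u y : Y} (ht : t ∈ T)
    (h1 : Coo X P β u y) : Coo X P β (t * u * t⁻¹) (t * y * t⁻¹) := by
  refine ⟨?_, ?_⟩
  · rw [← R.tor β (hP β hβP) t ht]
    exact conj_mem_cj.2 h1.1
  · have e : (t * y * t⁻¹)⁻¹ * (t * u * t⁻¹) = t * (y⁻¹ * u) * t⁻¹ := by group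
    rw [e]
    exact (Subgroup.mem_normalizer_iff.1 (R.T_le_normalizer (S := P \ {β}) (fun x hx => hP x hx.1) ht) _).1 h1.2

/-- **Positivity.** If a representative of `v` conjugates `u` into `U` and the `β`-coordinate of `u` is not trivial,
then `v β > 0`. -/
theorem Bas.pos_of_conj [Finite W] {β : I → ℤ} (hβP : β ∈ P) (hβ : f β = c) {v : W} {k : Y} (hk : Rp cs R.nsys v k)
    {u y : Y} (h1 : Coo X P β u y) (hy : y ≠ 1) (hU : k * u * k⁻¹ ∈ RGD.Sup X (RGD.Pos cs h)) :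
    0 ≤ rep cs h v β := by
  by_contra hcon
  have hβr := B.zc.root β hβP
  have hneg : rep cs h v β ≤ 0 := (hβr.act v).pos_or_neg.resolve_left hcon
  have hu := h1.mem hβP
  obtain ⟨a, ha, c', hc', e⟩ := splitZ R hZ B.zc htHom (htHom.comp (rep cs h v).toAddMonoidHom)
    (fun b hb => RGD.ht_pos (B.zc.root _ hb) (B.pos hb).2) hu
  have h2 : k * a * k⁻¹ ∈ RGD.Sup X (RGD.Pos cs h) :=
    conj_mem_Sup R hk (S := {x | x ∈ P ∧ 0 < (htHom.comp (rep cs h v).toAddMonoidHom) x}) (S' := RGD.Pos cs h)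
      (fun b hb => B.zc.root b hb.1)
      (fun b hb => ⟨(B.zc.root b hb.1).act v, pos_of_ht ((B.zc.root b hb.1).act v) hb.2⟩) ha
  have h3 : k * c' * k⁻¹ ∈ RGD.Sup X (Neg cs h) :=
    conj_mem_Sup R hk (S := {x | x ∈ P ∧ (htHom.comp (rep cs h v).toAddMonoidHom) x ≤ 0}) (S' := Neg cs h)
      (fun b hb => B.zc.root b hb.1)
      (fun b hb => ⟨(B.zc.root b hb.1).act v, neg_of_ht ((B.zc.root b hb.1).act v) hb.2⟩) hc'
  have h4 : k * c' * k⁻¹ = 1 := by
    refine eq_one_of_mem_UN_of_mem_B R h3 (RGD.U_le_B ?_)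
    have e' : k * c' * k⁻¹ = (k * a * k⁻¹)⁻¹ * (k * u * k⁻¹) := by rw [e]; group
    rw [e']
    exact mul_mem (inv_mem h2) hU
  rw [conj_eq_one_iff] at h4
  rw [h4, mul_one] at e
  have h5 : u ∈ RGD.Sup X (P \ {β}) := by
    rw [e]
    refine RGD.Sup_mono (S := {x | x ∈ P ∧ 0 < (htHom.comp (rep cs h v).toAddMonoidHom) x}) (S' := P \ {β}) ?_ ha
    rintro b ⟨hb, hb0⟩
    refine ⟨hb, ?_⟩
    rintro rfl
    have h6 : 0 ≤ rep cs h v b := pos_of_ht (hβr.act v) hb0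
    exact hcon h6
  exact hy (B.coo_uniq R hZ hβP hβ h1 (coo_of_mem h5))

/-- coordinates of a product over a list of simple roots -/
theorem Bas.coo_prod {β : I → ℤ} (hβP : β ∈ P) (hβ : f β = c) {y : (I → ℤ) → Y} :
    ∀ L : List (I → ℤ), (∀ b ∈ L, b ∈ P ∧ y b ∈ X b) → L.Nodup →
      Coo X P β ((L.map y).prod) (if β ∈ L then y β else 1) := by
  intro L
  induction L with
  | nil =>
    intro _ _
    simpa using coo_one
  | cons b L ih =>
    intro hL hN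
    rw [List.nodup_cons] at hN
    have h1 := ih (fun b' hb' => hL b' (List.mem_cons_of_mem _ hb')) hN.2
    have h2 := hL b List.mem_cons_self
    rw [List.map_cons, List.prod_cons]
    by_cases hb : β = b
    · subst hb
      rw [if_neg hN.1] at h1
      have h3 := B.coo_mul R hZ hβP hβ (coo_self (P := P) h2.2) h1
      rw [mul_one] at h3
      rw [if_pos List.mem_cons_self]
      exact h3
    · have h3 := B.coo_mul R hZ hβP hβ (coo_of_mem (P := P) (RGD.le_Sup (S := P \ {β}) ⟨h2.1, fun h' => hb h'.symm⟩ h2.2)) h1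
      rw [one_mul] at h3
      have h4 : (if β ∈ b :: L then y β else 1) = if β ∈ L then y β else 1 := by
        by_cases h5 : β ∈ L
        · rw [if_pos h5, if_pos (List.mem_cons_of_mem _ h5)]
        · rw [if_neg h5, if_neg]
          intro h6
          rcases List.mem_cons.1 h6 with h7 | h7
          · exact hb h7
          · exact h5 h7
      rw [h4]
      exact h3

/-- products over permuted lists -/
theorem Bas.prod_perm {y : (I → ℤ) → Y} {L L' : List (I → ℤ)} (hp : L.Perm L') :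
    (∀ b ∈ L, b ∈ P ∧ y b ∈ X b) → (L.map y).prod * ((L'.map y).prod)⁻¹ ∈ RGD.Sup X (Com P f c) := by
  have hprod : ∀ L : List (I → ℤ), (∀ b ∈ L, b ∈ P ∧ y b ∈ X b) → (L.map y).prod ∈ RGD.Sup X P := by
    intro L
    induction L with
    | nil => intro _; exact one_mem _
    | cons b L ih =>
      intro hL
      rw [List.map_cons, List.prod_cons]
      exact mul_mem (RGD.le_Sup (hL b List.mem_cons_self).1 (hL b List.mem_cons_self).2)
        (ih fun b' hb' => hL b' (List.mem_cons_of_mem _ hb'))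
  have hnorm : ∀ u ∈ RGD.Sup X P, ∀ m ∈ RGD.Sup X (Com P f c), u * m * u⁻¹ ∈ RGD.Sup X (Com P f c) := by
    intro u hu m hm
    have h1 : RGD.Sup X P ≤ Subgroup.normalizer (RGD.Sup X (Com P f c) : Set Y) :=
      RGD.Sup_le fun a ha => B.norm_com R hZ ha
    exact (Subgroup.mem_normalizer_iff.1 (h1 hu) m).1 hm
  induction hp with
  | nil => intro _; rw [mul_inv_cancel]; exact one_mem _
  | cons b _ ih =>
    intro hL
    rw [List.map_cons, List.prod_cons, List.map_cons, List.prod_cons]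
    have h1 := ih fun b' hb' => hL b' (List.mem_cons_of_mem _ hb')
    have h2 := hnorm _ (RGD.le_Sup (hL b List.mem_cons_self).1 (hL b List.mem_cons_self).2) _ h1
    have e : ∀ a b c : Y, a * b * (a * c)⁻¹ = a * (b * c⁻¹) * a⁻¹ := by intro a b c; group
    rw [e]
    exact h2
  | swap a b l =>
    intro hL
    have ha := hL a (List.mem_cons_of_mem _ List.mem_cons_self)
    have hb := hL b List.mem_cons_self
    rw [List.map_cons, List.prod_cons, List.map_cons, List.prod_cons, List.map_cons, List.prod_cons, List.map_cons,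
      List.prod_cons]
    have e : y b * (y a * (l.map y).prod) * (y a * (y b * (l.map y).prod))⁻¹ = ⁅y b, y a⁆ := by
      rw [commutatorElement_def]; group
    rw [e]
    by_cases hab : b = a
    · subst hab
      rw [commutatorElement_self]
      exact one_mem _
    · exact RGD.Sup_mono (S := {z | ZB cs h b a z}) (S' := Com P f c)
        (fun z hz => ⟨B.zc.btw b hb.1 a ha.1 z hz, B.zb_lt hb.1 ha.1 hz⟩)
        (hZ b a (B.zc.root b hb.1) (B.zc.root a ha.1) hab (B.ne_neg hb.1 ha.1) _ hb.2 _ ha.2)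
  | trans h1 h2 ih1 ih2 =>
    intro hL
    have h3 := ih1 hL
    have h4 := ih2 fun b hb => hL b (h1.symm.subset hb)
    have e : ∀ a b c : Y, a * c⁻¹ = (a * b⁻¹) * (b * c⁻¹) := by intro a b c; group
    rw [e _ _ _]
    exact mul_mem h3 h4

end

end Cfsg.Agent.H374.SR
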